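import Cfsg.Agent.ChevMult.Steps
import Cfsg.Agent.Chevalley.All
import Cfsg.Agent.ChevMult.Data

/-!
Derivation tables for the relations of lifts in central extensions, types B2 and D4.
-/

set_option autoImplicit false

namespace CfsgLib.ChevSteinberg

open Cfsg.Lie CfsgLib.Chevalley CfsgLib.ChevMult

/-- Steps for B2. -/
def uniStepsB2 : List PairStep :=
    [⟨5, 7, [5], [0, -1], 0, 0, []⟩,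
     ⟨6, 4, [6], [-1, -1], 0, 0, []⟩,
     ⟨6, 7, [6], [0, -1], 0, 0, []⟩,
     ⟨7, 5, [], [], 0, 0, []⟩,
     ⟨7, 6, [], [], 0, 0, []⟩,
     ⟨4, 6, [], [], 0, 0, []⟩,
     ⟨4, 7, [4], [0, -1], 0, 0, []⟩,
     ⟨5, 6, [5, 7], [-1, 0], 0, 0, []⟩,
     ⟨6, 5, [6, 7], [-1, -2], 0, 0, []⟩,
     ⟨7, 4, [7], [-1, -1], 0, 0, []⟩,
     ⟨4, 5, [4, 6, 7], [-1, -2], 0, 0, []⟩,
     ⟨5, 4, [5, 6, 7], [-1, -1], 0, 0, []⟩]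

/-- Steps for D4. -/
def uniStepsD4 : List PairStep :=
    [⟨12, 15, [12], [-1, -1, 0, 0], 0, 0, []⟩,
     ⟨12, 17, [12], [0, -1, 0, 0], 0, 0, []⟩,
     ⟨12, 20, [12], [0, -1, 0, 0], 0, 0, []⟩,
     ⟨12, 22, [12], [-1, -1, 0, 0], 0, 0, []⟩,
     ⟨13, 16, [13], [-1, -1, 0, 0], 0, 0, []⟩,
     ⟨13, 17, [13], [0, -1, 0, 0], 0, 0, []⟩,
     ⟨13, 21, [13], [0, -1, 0, 0], 0, 0, []⟩,
     ⟨13, 22, [13], [-1, -1, 0, 0], 0, 0, []⟩,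
     ⟨14, 15, [14], [-1, -1, 0, 0], 0, 0, []⟩,
     ⟨14, 16, [14], [-1, -1, 0, 0], 0, 0, []⟩,
     ⟨14, 19, [14], [0, -1, -1, 0], 0, 0, []⟩,
     ⟨14, 23, [14], [-1, 0, 0, 0], 0, 0, []⟩,
     ⟨15, 12, [15], [-1, 0, 0, 0], 0, 0, []⟩,
     ⟨15, 14, [15], [-2, -1, 0, 0], 0, 0, []⟩,
     ⟨15, 17, [15], [0, -1, 0, 0], 0, 0, []⟩,
     ⟨15, 20, [15], [0, -1, 0, 0], 0, 0, []⟩,
     ⟨15, 23, [15], [-1, 0, 0, 0], 0, 0, []⟩,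
     ⟨16, 13, [16], [-1, 0, 0, 0], 0, 0, []⟩,
     ⟨16, 14, [16], [-2, -1, 0, 0], 0, 0, []⟩,
     ⟨16, 17, [16], [0, -1, 0, 0], 0, 0, []⟩,
     ⟨16, 21, [16], [0, -1, 0, 0], 0, 0, []⟩,
     ⟨16, 23, [16], [-1, 0, 0, 0], 0, 0, []⟩,
     ⟨17, 12, [17], [-1, 0, 0, 0], 0, 0, []⟩,
     ⟨17, 13, [17], [-1, 0, 0, 0], 0, 0, []⟩,
     ⟨17, 15, [17], [-1, -1, 0, 0], 0, 0, []⟩,
     ⟨17, 16, [17], [-1, -1, 0, 0], 0, 0, []⟩,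
     ⟨17, 22, [17], [-1, -1, 0, 0], 0, 0, []⟩,
     ⟨17, 23, [17], [-1, 0, 0, 0], 0, 0, []⟩,
     ⟨18, 19, [18], [0, -1, -1, 0], 0, 0, []⟩,
     ⟨18, 20, [18], [0, -1, 0, 0], 0, 0, []⟩,
     ⟨18, 21, [18], [0, -1, 0, 0], 0, 0, []⟩,
     ⟨18, 22, [18], [-1, -1, 0, 0], 0, 0, []⟩,
     ⟨19, 14, [19], [-1, -1, -1, 0], 0, 0, []⟩,
     ⟨19, 18, [19], [0, 0, -1, 0], 0, 0, []⟩,
     ⟨19, 20, [19], [0, -1, 0, 0], 0, 0, []⟩,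
     ⟨19, 21, [19], [0, -1, 0, 0], 0, 0, []⟩,
     ⟨19, 23, [19], [-1, 0, 0, 0], 0, 0, []⟩,
     ⟨20, 12, [20], [-1, 0, 0, 0], 0, 0, []⟩,
     ⟨20, 15, [20], [-1, -1, 0, 0], 0, 0, []⟩,
     ⟨20, 18, [20], [-1, -2, 0, 0], 0, 0, []⟩,
     ⟨20, 19, [20], [1, -1, 0, 0], 0, 0, []⟩,
     ⟨20, 22, [20], [-1, -1, 0, 0], 0, 0, []⟩,
     ⟨20, 23, [20], [-1, 0, 0, 0], 0, 0, []⟩,
     ⟨21, 13, [21], [-1, 0, 0, 0], 0, 0, []⟩,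
     ⟨21, 16, [21], [-1, -1, 0, 0], 0, 0, []⟩,
     ⟨21, 18, [21], [-1, -2, 0, 0], 0, 0, []⟩,
     ⟨21, 19, [21], [1, -1, 0, 0], 0, 0, []⟩,
     ⟨21, 22, [21], [-1, -1, 0, 0], 0, 0, []⟩,
     ⟨21, 23, [21], [-1, 0, 0, 0], 0, 0, []⟩,
     ⟨22, 12, [22], [-1, 0, 0, 0], 0, 0, []⟩,
     ⟨22, 13, [22], [-1, 0, 0, 0], 0, 0, []⟩,
     ⟨22, 17, [22], [0, -1, 0, 0], 0, 0, []⟩,
     ⟨22, 18, [22], [-1, -2, 0, 0], 0, 0, []⟩,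
     ⟨22, 20, [22], [0, -1, 0, 0], 0, 0, []⟩,
     ⟨22, 21, [22], [0, -1, 0, 0], 0, 0, []⟩,
     ⟨22, 23, [22], [-1, 0, 0, 0], 0, 0, []⟩,
     ⟨23, 14, [23], [-2, -1, 0, 0], 0, 0, []⟩,
     ⟨23, 15, [23], [-1, -1, 0, 0], 0, 0, []⟩,
     ⟨23, 16, [23], [-1, -1, 0, 0], 0, 0, []⟩,
     ⟨23, 17, [23], [0, -1, 0, 0], 0, 0, []⟩,
     ⟨23, 19, [23], [1, -1, 0, 0], 0, 0, []⟩,
     ⟨23, 20, [23], [0, -1, 0, 0], 0, 0, []⟩,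
     ⟨23, 21, [23], [0, -1, 0, 0], 0, 0, []⟩,
     ⟨23, 22, [23], [-1, -1, 0, 0], 0, 0, []⟩,
     ⟨12, 14, [12, 15], [-2, -1, 0, 0], 0, 0, []⟩,
     ⟨12, 16, [12, 17], [-1, -1, 0, 0], 0, 0, []⟩,
     ⟨12, 19, [12, 20], [1, -1, 0, 0], 0, 0, []⟩,
     ⟨12, 21, [12, 22], [0, -1, 0, 0], 0, 0, []⟩,
     ⟨13, 14, [13, 16], [-2, -1, 0, 0], 0, 0, []⟩,
     ⟨13, 15, [13, 17], [-1, -1, 0, 0], 0, 0, []⟩,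
     ⟨13, 19, [13, 21], [1, -1, 0, 0], 0, 0, []⟩,
     ⟨13, 20, [13, 22], [0, -1, 0, 0], 0, 0, []⟩,
     ⟨14, 12, [14, 15], [-1, 0, 0, 0], 0, 0, []⟩,
     ⟨14, 13, [14, 16], [-1, 0, 0, 0], 0, 0, []⟩,
     ⟨14, 18, [14, 19], [0, 0, -1, 0], 0, 0, []⟩,
     ⟨14, 22, [14, 23], [-1, -1, 0, 0], 0, 0, []⟩,
     ⟨15, 13, [15, 17], [-1, 0, 0, 0], 0, 0, []⟩,
     ⟨15, 18, [15, 20], [-1, -2, 0, 0], 0, 0, []⟩,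
     ⟨15, 21, [15, 23], [0, -1, 0, 0], 0, 0, []⟩,
     ⟨16, 12, [16, 17], [-1, 0, 0, 0], 0, 0, []⟩,
     ⟨16, 18, [16, 21], [-1, -2, 0, 0], 0, 0, []⟩,
     ⟨16, 20, [16, 23], [0, -1, 0, 0], 0, 0, []⟩,
     ⟨17, 18, [17, 22], [-1, -2, 0, 0], 0, 0, []⟩,
     ⟨17, 19, [17, 23], [1, -1, 0, 0], 0, 0, []⟩,
     ⟨18, 14, [18, 19], [-1, -1, -1, 0], 0, 0, []⟩,
     ⟨18, 15, [18, 20], [-1, -1, 0, 0], 0, 0, []⟩,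
     ⟨18, 16, [18, 21], [-1, -1, 0, 0], 0, 0, []⟩,
     ⟨18, 17, [18, 22], [0, -1, 0, 0], 0, 0, []⟩,
     ⟨19, 12, [19, 20], [-1, 0, 0, 0], 0, 0, []⟩,
     ⟨19, 13, [19, 21], [-1, 0, 0, 0], 0, 0, []⟩,
     ⟨19, 17, [19, 23], [0, -1, 0, 0], 0, 0, []⟩,
     ⟨20, 13, [20, 22], [-1, 0, 0, 0], 0, 0, []⟩,
     ⟨20, 16, [20, 23], [-1, -1, 0, 0], 0, 0, []⟩,
     ⟨21, 12, [21, 22], [-1, 0, 0, 0], 0, 0, []⟩,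
     ⟨21, 15, [21, 23], [-1, -1, 0, 0], 0, 0, []⟩,
     ⟨22, 14, [22, 23], [-2, -1, 0, 0], 0, 0, []⟩,
     ⟨12, 13, [12], [0, -2, -1, 0], 0, 0, []⟩,
     ⟨12, 18, [12], [-1, -2, 0, 0], 0, 0, []⟩,
     ⟨12, 23, [12], [0, 0, 0, -1], 0, 0, []⟩,
     ⟨13, 12, [13], [0, 0, -1, 0], 0, 0, []⟩,
     ⟨13, 18, [13], [-1, -2, 0, 0], 0, 0, []⟩,
     ⟨13, 23, [13], [0, 0, -1, 0], 0, 0, []⟩,
     ⟨14, 17, [14], [0, -1, 0, 0], 0, 0, []⟩,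
     ⟨14, 20, [14], [0, -1, 0, 0], 0, 0, []⟩,
     ⟨14, 21, [14], [0, -1, 0, 0], 0, 0, []⟩,
     ⟨15, 16, [15], [-1, 0, -1, 0], 0, 0, []⟩,
     ⟨15, 19, [15], [1, -1, 0, 0], 0, 0, []⟩,
     ⟨15, 22, [15], [1, 0, 0, -1], 0, 0, []⟩,
     ⟨16, 15, [16], [1, 0, -1, 0], 0, 0, []⟩,
     ⟨16, 19, [16], [1, -1, 0, 0], 0, 0, []⟩,
     ⟨16, 22, [16], [1, 0, -1, 0], 0, 0, []⟩,
     ⟨17, 14, [17], [-2, -1, 0, 0], 0, 0, []⟩,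
     ⟨17, 20, [17], [1, 0, 0, -1], 0, 0, []⟩,
     ⟨17, 21, [17], [1, 0, -1, 0], 0, 0, []⟩,
     ⟨18, 12, [18], [-1, 0, 0, 0], 0, 0, []⟩,
     ⟨18, 13, [18], [-1, 0, 0, 0], 0, 0, []⟩,
     ⟨18, 23, [18], [-1, 0, 0, 0], 0, 0, []⟩,
     ⟨19, 15, [19], [-1, -1, 0, 0], 0, 0, []⟩,
     ⟨19, 16, [19], [-1, -1, 0, 0], 0, 0, []⟩,
     ⟨19, 22, [19], [-1, -1, 0, 0], 0, 0, []⟩,
     ⟨20, 14, [20], [-2, -1, 0, 0], 0, 0, []⟩,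
     ⟨20, 17, [20], [-1, 0, 0, -1], 0, 0, []⟩,
     ⟨20, 21, [20], [1, 0, -1, 0], 0, 0, []⟩,
     ⟨21, 14, [21], [-2, -1, 0, 0], 0, 0, []⟩,
     ⟨21, 17, [21], [-1, 0, -1, 0], 0, 0, []⟩,
     ⟨21, 20, [21], [-1, 0, -1, 0], 0, 0, []⟩,
     ⟨22, 15, [22], [-1, 0, 0, -1], 0, 0, []⟩,
     ⟨22, 16, [22], [-1, 0, -1, 0], 0, 0, []⟩,
     ⟨22, 19, [22], [1, -1, 0, 0], 0, 0, []⟩,
     ⟨23, 12, [23], [0, -2, 0, -1], 0, 0, []⟩,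
     ⟨23, 13, [23], [0, -2, -1, 0], 0, 0, []⟩,
     ⟨23, 18, [23], [-1, -2, 0, 0], 0, 0, []⟩]

/-- Cocharacters for B2, pairing to one or two with each root. -/
def uniScalB2 : List (List ℤ) :=
  [[-1, 0], [0, -1], [0, -1], [-1, 0], [-1, 0], [0, -1], [0, -1], [-1, 0]]

/-- Cocharacters for D4, pairing to one with each root. -/
def uniScalD4 : List (List ℤ) :=
  [[0, -1, 0, 0], [-1, 0, 0, 0], [-1, 0, 0, 0], [-1, 0, 0, 0], [-1, 0, 0, 0], [0, -1, 0, 0],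
   [-1, 0, 0, 0], [-1, 0, 0, 0], [-1, 0, 0, 0], [-1, 0, 0, 0], [0, -1, 0, 0], [0, -1, 0, 0],
   [0, -1, 0, 0], [0, -1, 0, 0], [-1, 0, 0, 0], [-1, 0, 0, 0], [-1, 0, 0, 0], [-1, 0, 0, 0],
   [0, -1, 0, 0], [-1, 0, 0, 0], [-1, 0, 0, 0], [-1, 0, 0, 0], [-1, 0, 0, 0], [0, -1, 0, 0]]

/-- Commutator pairs for D4. -/
def uniAbelD4 : List (ℕ × ℕ) :=
  [(1, 9), (0, 14), (0, 15), (0, 16), (0, 17), (1, 17), (0, 19), (0, 20), (0, 21), (0, 22),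
   (1, 20), (1, 21), (2, 22), (3, 22), (1, 23), (2, 23), (3, 23), (4, 23), (6, 22), (6, 23),
   (7, 23), (8, 23), (9, 23), (14, 22)]

theorem uniChkSteps_B2 : chkSteps chevB2 [] uniStepsB2 = true := by decide +kernel
theorem uniChkSteps_D4 : chkSteps chevD4 [] uniStepsD4 = true := by decide +kernel
theorem uniChkExp_B2 : chkExp chevB2 uniStepsB2 [1, 2] = true := by decide +kernel
theorem uniChkExp_D4 : chkExp chevD4 uniStepsD4 [1, 2] = true := by decide +kernel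
theorem uniChkAbel_D4 : chkAbel chevD4 uniAbelD4 = true := by decide +kernel

theorem uniChkScal_B2 : ∀ r : Fin chevB2.nroots,
    (cop chevB2 (uniScalB2.getD r []) r).natAbs ∈ [1, 2] := by decide +kernel

theorem uniChkScal_D4 : ∀ r : Fin chevD4.nroots,
    (cop chevD4 (uniScalD4.getD r []) r).natAbs ∈ [1, 2] := by decide +kernel

theorem uniChkScal_G2 : ∀ r : Fin chevG2.nroots,
    (cop chevG2 (scalTabG2.getD r []) r).natAbs ∈ [1, 2] := by decide +kernel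

theorem uniChkScal_F4 : ∀ r : Fin chevF4.nroots,
    (cop chevF4 (scalTabF4.getD r []) r).natAbs ∈ [1, 2] := by decide +kernel

end CfsgLib.ChevSteinberg
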