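import Cfsg.Agent.ChevMult.Steps
import Cfsg.Agent.Chevalley.All
import Cfsg.Agent.ChevSteinberg.UniTables

/-!
Derivation tables for the relations of lifts in central extensions of D4 over three elements.
-/

set_option autoImplicit false

namespace CfsgLib.ChevSteinberg

open Cfsg.Lie CfsgLib.Chevalley CfsgLib.ChevMult

/-- Two ways of writing the root `s` as a sum, for the orthogonal pair `(r, s)`. -/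
structure OrthStep where
  r : ℕ
  s : ℕ
  a : ℕ
  b : ℕ
  a2 : ℕ
  b2 : ℕ

/-- The coefficient of the first term. -/
def coefOne (D : ChevalleyDatum) (a b : ℕ) : ℤ := ((D.commTerms a b).getD 0 (0, 0, 0, 0)).2.1

/-- Small cocharacters. -/
def smallVecs : ℕ → List (List ℤ)
  | 0 => [[]]
  | k + 1 => (smallVecs k).flatMap fun v => [0, -1, 1].map fun x => x :: v

/-- Check: `s = a + b`, `k = r + a`, the lifts of `k` and `s` commute by a torus element. -/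
def chkHalf (D : ChevalleyDatum) (r s a b k : ℕ) : Bool :=
  decide (r < D.nroots ∧ s < D.nroots ∧ a < D.nroots ∧ b < D.nroots ∧ k < D.nroots) &&
  decide (s ≠ r ∧ s ≠ D.neg r ∧ b ≠ a ∧ b ≠ D.neg a ∧ a ≠ r ∧ a ≠ D.neg r ∧ b ≠ r ∧
    b ≠ D.neg r ∧ s ≠ k ∧ s ≠ D.neg k ∧ k ≠ b ∧ k ≠ D.neg b) &&
  decide (D.commTerms r s = [] ∧ D.commTerms r b = [] ∧ D.commTerms k s = [] ∧
    D.commTerms b k = []) &&
  decide (D.commTerms a b = [(s, coefOne D a b, 1, 1)] ∧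
    D.commTerms r a = [(k, coefOne D r a, 1, 1)]) &&
  decide ((coefOne D a b).natAbs = 1 ∧ (coefOne D r a).natAbs = 1) &&
  (smallVecs D.rank).any fun n => decide (cop D n s = 0) && decide ((cop D n k).natAbs = 1)

/-- Check of an orthogonal pair. -/
def chkOrth (D : ChevalleyDatum) (p : OrthStep) : Bool :=
  chkHalf D p.r p.s p.a p.b p.b2 && chkHalf D p.r p.s p.a2 p.b2 p.b &&
    decide (coefOne D p.a p.b * coefOne D p.r p.a = coefOne D p.a2 p.b2 * coefOne D p.r p.a2)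

/-- Orthogonal pairs of D4. -/
def orthD4 : List OrthStep :=
    [⟨12, 13, 3, 22, 21, 4⟩,
     ⟨12, 18, 6, 22, 21, 7⟩,
     ⟨12, 23, 14, 22, 21, 15⟩,
     ⟨13, 18, 6, 22, 20, 8⟩,
     ⟨13, 23, 14, 22, 20, 16⟩,
     ⟨14, 17, 4, 23, 22, 5⟩,
     ⟨14, 20, 7, 23, 22, 10⟩,
     ⟨14, 21, 8, 23, 22, 11⟩,
     ⟨15, 16, 3, 23, 21, 5⟩,
     ⟨15, 19, 6, 23, 21, 10⟩,
     ⟨15, 22, 9, 23, 21, 12⟩,
     ⟨16, 19, 6, 23, 20, 11⟩,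
     ⟨16, 22, 9, 23, 20, 13⟩,
     ⟨17, 20, 7, 23, 19, 12⟩,
     ⟨17, 21, 8, 23, 19, 13⟩,
     ⟨18, 23, 14, 22, 17, 19⟩,
     ⟨19, 22, 9, 23, 17, 18⟩,
     ⟨20, 21, 8, 23, 16, 18⟩]

/-- Both orientations of the orthogonal pairs. -/
def orthPairsD4 : List (ℕ × ℕ) := orthD4.map (fun p => (p.r, p.s)) ++ orthD4.map fun p => (p.s, p.r)

/-- Steps for D4 with exponents one. -/
def threeStepsD4 : List PairStep :=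
    [⟨12, 15, [12], [-1, -1, 0, 0], 0, 0, []⟩,
     ⟨12, 17, [12], [0, -1, 0, 0], 0, 0, []⟩,
     ⟨12, 20, [12], [0, -1, 0, 0], 0, 0, []⟩,
     ⟨12, 22, [12], [-1, -1, 0, 0], 0, 0, []⟩,
     ⟨13, 16, [13], [-1, -1, 0, 0], 0, 0, []⟩,
     ⟨13, 17, [13], [0, -1, 0, 0], 0, 0, []⟩,
     ⟨13, 21, [13], [0, -1, 0, 0], 0, 0, []⟩,
     ⟨13, 22, [13], [-1, -1, 0, 0], 0, 0, []⟩,
     ⟨14, 15, [14], [-1, -1, 0, 0], 0, 0, []⟩,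
     ⟨14, 16, [14], [-1, -1, 0, 0], 0, 0, []⟩,
     ⟨14, 19, [14], [0, -1, -1, 0], 0, 0, []⟩,
     ⟨14, 23, [14], [-1, 0, 0, 0], 0, 0, []⟩,
     ⟨15, 12, [15], [-1, 0, 0, 0], 0, 0, []⟩,
     ⟨15, 14, [15], [-2, -1, 0, 0], 0, 0, []⟩,
     ⟨15, 17, [15], [0, -1, 0, 0], 0, 0, []⟩,
     ⟨15, 20, [15], [0, -1, 0, 0], 0, 0, []⟩,
     ⟨15, 23, [15], [-1, 0, 0, 0], 0, 0, []⟩,
     ⟨16, 13, [16], [-1, 0, 0, 0], 0, 0, []⟩,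
     ⟨16, 14, [16], [-2, -1, 0, 0], 0, 0, []⟩,
     ⟨16, 17, [16], [0, -1, 0, 0], 0, 0, []⟩,
     ⟨16, 21, [16], [0, -1, 0, 0], 0, 0, []⟩,
     ⟨16, 23, [16], [-1, 0, 0, 0], 0, 0, []⟩,
     ⟨17, 12, [17], [-1, 0, 0, 0], 0, 0, []⟩,
     ⟨17, 13, [17], [-1, 0, 0, 0], 0, 0, []⟩,
     ⟨17, 15, [17], [-1, -1, 0, 0], 0, 0, []⟩,
     ⟨17, 16, [17], [-1, -1, 0, 0], 0, 0, []⟩,
     ⟨17, 22, [17], [-1, -1, 0, 0], 0, 0, []⟩,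
     ⟨17, 23, [17], [-1, 0, 0, 0], 0, 0, []⟩,
     ⟨18, 19, [18], [0, -1, -1, 0], 0, 0, []⟩,
     ⟨18, 20, [18], [0, -1, 0, 0], 0, 0, []⟩,
     ⟨18, 21, [18], [0, -1, 0, 0], 0, 0, []⟩,
     ⟨18, 22, [18], [-1, -1, 0, 0], 0, 0, []⟩,
     ⟨19, 14, [19], [-1, -1, -1, 0], 0, 0, []⟩,
     ⟨19, 18, [19], [0, 0, -1, 0], 0, 0, []⟩,
     ⟨19, 20, [19], [0, -1, 0, 0], 0, 0, []⟩,
     ⟨19, 21, [19], [0, -1, 0, 0], 0, 0, []⟩,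
     ⟨19, 23, [19], [-1, 0, 0, 0], 0, 0, []⟩,
     ⟨20, 12, [20], [-1, 0, 0, 0], 0, 0, []⟩,
     ⟨20, 15, [20], [-1, -1, 0, 0], 0, 0, []⟩,
     ⟨20, 18, [20], [-1, -2, 0, 0], 0, 0, []⟩,
     ⟨20, 19, [20], [1, -1, 0, 0], 0, 0, []⟩,
     ⟨20, 22, [20], [-1, -1, 0, 0], 0, 0, []⟩,
     ⟨20, 23, [20], [-1, 0, 0, 0], 0, 0, []⟩,
     ⟨21, 13, [21], [-1, 0, 0, 0], 0, 0, []⟩,
     ⟨21, 16, [21], [-1, -1, 0, 0], 0, 0, []⟩,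
     ⟨21, 18, [21], [-1, -2, 0, 0], 0, 0, []⟩,
     ⟨21, 19, [21], [1, -1, 0, 0], 0, 0, []⟩,
     ⟨21, 22, [21], [-1, -1, 0, 0], 0, 0, []⟩,
     ⟨21, 23, [21], [-1, 0, 0, 0], 0, 0, []⟩,
     ⟨22, 12, [22], [-1, 0, 0, 0], 0, 0, []⟩,
     ⟨22, 13, [22], [-1, 0, 0, 0], 0, 0, []⟩,
     ⟨22, 17, [22], [0, -1, 0, 0], 0, 0, []⟩,
     ⟨22, 18, [22], [-1, -2, 0, 0], 0, 0, []⟩,
     ⟨22, 20, [22], [0, -1, 0, 0], 0, 0, []⟩,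
     ⟨22, 21, [22], [0, -1, 0, 0], 0, 0, []⟩,
     ⟨22, 23, [22], [-1, 0, 0, 0], 0, 0, []⟩,
     ⟨23, 14, [23], [-2, -1, 0, 0], 0, 0, []⟩,
     ⟨23, 15, [23], [-1, -1, 0, 0], 0, 0, []⟩,
     ⟨23, 16, [23], [-1, -1, 0, 0], 0, 0, []⟩,
     ⟨23, 17, [23], [0, -1, 0, 0], 0, 0, []⟩,
     ⟨23, 19, [23], [1, -1, 0, 0], 0, 0, []⟩,
     ⟨23, 20, [23], [0, -1, 0, 0], 0, 0, []⟩,
     ⟨23, 21, [23], [0, -1, 0, 0], 0, 0, []⟩,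
     ⟨23, 22, [23], [-1, -1, 0, 0], 0, 0, []⟩,
     ⟨12, 14, [12, 15], [-2, -1, 0, 0], 0, 0, []⟩,
     ⟨12, 16, [12, 17], [-1, -1, 0, 0], 0, 0, []⟩,
     ⟨12, 19, [12, 20], [1, -1, 0, 0], 0, 0, []⟩,
     ⟨12, 21, [12, 22], [0, -1, 0, 0], 0, 0, []⟩,
     ⟨13, 14, [13, 16], [-2, -1, 0, 0], 0, 0, []⟩,
     ⟨13, 15, [13, 17], [-1, -1, 0, 0], 0, 0, []⟩,
     ⟨13, 19, [13, 21], [1, -1, 0, 0], 0, 0, []⟩,
     ⟨13, 20, [13, 22], [0, -1, 0, 0], 0, 0, []⟩,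
     ⟨14, 12, [14, 15], [-1, 0, 0, 0], 0, 0, []⟩,
     ⟨14, 13, [14, 16], [-1, 0, 0, 0], 0, 0, []⟩,
     ⟨14, 18, [14, 19], [0, 0, -1, 0], 0, 0, []⟩,
     ⟨14, 22, [14, 23], [-1, -1, 0, 0], 0, 0, []⟩,
     ⟨15, 13, [15, 17], [-1, 0, 0, 0], 0, 0, []⟩,
     ⟨15, 18, [15, 20], [-1, -2, 0, 0], 0, 0, []⟩,
     ⟨15, 21, [15, 23], [0, -1, 0, 0], 0, 0, []⟩,
     ⟨16, 12, [16, 17], [-1, 0, 0, 0], 0, 0, []⟩,
     ⟨16, 18, [16, 21], [-1, -2, 0, 0], 0, 0, []⟩,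
     ⟨16, 20, [16, 23], [0, -1, 0, 0], 0, 0, []⟩,
     ⟨17, 18, [17, 22], [-1, -2, 0, 0], 0, 0, []⟩,
     ⟨17, 19, [17, 23], [1, -1, 0, 0], 0, 0, []⟩,
     ⟨18, 14, [18, 19], [-1, -1, -1, 0], 0, 0, []⟩,
     ⟨18, 15, [18, 20], [-1, -1, 0, 0], 0, 0, []⟩,
     ⟨18, 16, [18, 21], [-1, -1, 0, 0], 0, 0, []⟩,
     ⟨18, 17, [18, 22], [0, -1, 0, 0], 0, 0, []⟩,
     ⟨19, 12, [19, 20], [-1, 0, 0, 0], 0, 0, []⟩,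
     ⟨19, 13, [19, 21], [-1, 0, 0, 0], 0, 0, []⟩,
     ⟨19, 17, [19, 23], [0, -1, 0, 0], 0, 0, []⟩,
     ⟨20, 13, [20, 22], [-1, 0, 0, 0], 0, 0, []⟩,
     ⟨20, 16, [20, 23], [-1, -1, 0, 0], 0, 0, []⟩,
     ⟨21, 12, [21, 22], [-1, 0, 0, 0], 0, 0, []⟩,
     ⟨21, 15, [21, 23], [-1, -1, 0, 0], 0, 0, []⟩,
     ⟨22, 14, [22, 23], [-2, -1, 0, 0], 0, 0, []⟩]

theorem chkOrth_D4 : ∀ i : Fin orthD4.length, chkOrth chevD4 orthD4[i] = true := by decide +kernel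
theorem chkOrthEmpty_D4 : ∀ i : Fin orthD4.length,
    chevD4.commTerms orthD4[i].r orthD4[i].s = [] ∧
      chevD4.commTerms orthD4[i].s orthD4[i].r = [] := by decide +kernel
theorem threeChkSteps_D4 : chkSteps chevD4 orthPairsD4 threeStepsD4 = true := by decide +kernel
theorem threeChkExp_D4 : chkExp chevD4 threeStepsD4 [1] = true := by decide +kernel

theorem threeChkScal_D4 : ∀ r : Fin chevD4.nroots,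
    (cop chevD4 (uniScalD4.getD r []) r).natAbs = 1 := by decide +kernel

end CfsgLib.ChevSteinberg
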